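-- Team project SUG (S2412), case [GEN]: leaf [GDCONJ] (helper41).
import Cfsg.Agent.Lib.Helper41.SUG.GComm3

set_option autoImplicit false

namespace Cfsg.Agent.Lib.Helper41.SUG

open Matrix Cfsg.Agent.Lib.Helper60.SUG

universe u

/-- `d (c vA) = c vB`. -/
theorem diag_cyc_vA {F : Type u} [Field F] {q n : ℕ} (hn : 4 ≤ n) (lam α : F)
    (c : ↥(Cfsg.SU n F q)) (hc : IsCyc c) :
    Matrix.diagonal (dV n α) *ᵥ (mat c *ᵥ vA n lam) = mat c *ᵥ vB n lam α := by
  funext j
  rw [Matrix.mulVec_diagonal]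
  have hjn := j.isLt
  by_cases h0 : (j : ℕ) = 0
  · rw [cyc_zero c hc _ j h0, cyc_zero c hc _ j h0]
    have h1 : ¬ (n - 1 = 0) := by omega
    have h2 : ¬ (n - 1 = 1) := by omega
    simp only [vA, vB, if_neg h1, if_neg h2, mul_zero]
  · rw [cyc_succ c hc _ j (by omega), cyc_succ c hc _ j (by omega)]
    by_cases h1 : (j : ℕ) = 1
    · have h2 : (j : ℕ) - 1 = 0 := by omega
      have h3 : (j : ℕ) < 2 := by omega
      simp only [vA, vB, dV, if_pos h2, if_pos h3, mul_one]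
    · by_cases h2 : (j : ℕ) = 2
      · have h3 : ¬ ((j : ℕ) - 1 = 0) := by omega
        have h4 : (j : ℕ) - 1 = 1 := by omega
        have h5 : ¬ ((j : ℕ) < 2) := by omega
        have h6 : (j : ℕ) < 4 := by omega
        simp only [vA, vB, dV, if_neg h3, if_pos h4, if_neg h5, if_pos h6]
        ring
      · have h3 : ¬ ((j : ℕ) - 1 = 0) := by omega
        have h4 : ¬ ((j : ℕ) - 1 = 1) := by omega
        simp only [vA, vB, if_neg h3, if_neg h4, mul_zero]

/-- [GDCONJ] -/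
theorem pkgGDConj : PkgGDConj.{u} := by
  intro F _ _ q _ n hn lam α c d _ hc hd
  rw [mat_mul', mat_mul', ← Matrix.mulVec_mulVec, ← Matrix.mulVec_mulVec, hd,
    diag_cyc_vA hn lam α c hc, Matrix.mulVec_mulVec, mat_inv_mul', Matrix.one_mulVec]

end Cfsg.Agent.Lib.Helper41.SUG
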